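import Cfsg.Agent.Lib.FreeAction.Theta
import Cfsg.Agent.Lib.MinSquare.PermSummand

/-!
A fixed-point-free action on an operator group makes a module free over the acting group.
-/

set_option autoImplicit false
set_option linter.style.haveILetI false
set_option linter.unusedSectionVars false

namespace Cfsg.Agent.Lib.FreeAction

open scoped commutatorElement

universe uk uv

variable {k : Type uk} [Field k] {H : Type*} [Group H] [Fintype H]

/-- `V` is a free module over the group `H`, with some generating subspace. -/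
def IsFree {V : Type*} [AddCommGroup V] [Module k V] (τ : H →* Module.End k V) : Prop :=
  ∃ W : Submodule k V, (∀ v : V, ∃ x : H → V, (∀ h, x h ∈ W) ∧ ∑ h, τ h (x h) = v) ∧
    ∀ x : H → V, (∀ h, x h ∈ W) → ∑ h, τ h (x h) = 0 → ∀ h, x h = 0

/-- An abelian operator group of invertible order without fixed points gives freeness. -/
theorem isFree_of_abelian {V : Type*} [AddCommGroup V] [Module k V] {Z : Type*} [CommGroup Z] [Fintype Z]
    (hZ : (Fintype.card Z : k) ≠ 0) (π : Z →* Module.End k V) (τ : H →* Module.End k V)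
    (α : H →* MulAut Z) (hcompat : ∀ h z, τ h * π z = π (α h z) * τ h)
    (hfix : ∀ v : V, (∀ z, π z v = v) → v = 0) (hfpf : ∀ h : H, h ≠ 1 → ∀ z, α h z = z → z = 1) :
    IsFree τ := by
  classical
  obtain ⟨θ, u, c, hu⟩ := exists_theta (k := k) hZ α hfpf
  let Φ : MonoidAlgebra k Z →ₐ[k] Module.End k V := MonoidAlgebra.lift k (Module.End k V) Z π
  have hΦ : ∀ z, Φ (MonoidAlgebra.of k Z z) = π z := fun z => MonoidAlgebra.lift_of _ _
  have hsemi : ∀ (h : H) (b : MonoidAlgebra k Z) (v : V), τ h (Φ b v) = Φ (act α h b) (τ h v) := by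
    intro h b v
    induction b using MonoidAlgebra.induction_on with
    | of z => rw [act_of, hΦ, hΦ]; exact LinearMap.congr_fun (hcompat h z) v
    | add a b ha hb => simp only [map_add, LinearMap.add_apply, ha, hb]
    | smul r a ha => simp only [map_smul, LinearMap.smul_apply, ha]
  have havg : Φ (avg k Z) = 0 := by
    refine LinearMap.ext fun v => hfix _ fun z => ?_
    unfold avg
    rw [map_smul, map_sum, LinearMap.smul_apply, map_smul, LinearMap.sum_apply, map_sum]
    congr 1
    simp only [hΦ, ← Module.End.mul_apply, ← map_mul]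
    exact Equiv.sum_comp (Equiv.mulLeft z) fun w => π w v
  have hd : Φ (u * (transMat α θ).det) = 1 := by rw [hu, map_add, map_mul, havg, mul_zero, map_one, add_zero]
  set M := transMat α θ with hM
  let y : H → MonoidAlgebra k Z := fun h => u * M.adjugate h 1
  have hy : ∀ g : H, ∑ h, M g h * y h = u * M.det * (1 : Matrix H H (MonoidAlgebra k Z)) g 1 := by
    intro g
    have := congrFun (congrFun (Matrix.mul_adjugate M) g) 1
    rw [Matrix.mul_apply, Matrix.smul_apply, smul_eq_mul] at this
    rw [mul_assoc, ← this, Finset.mul_sum]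
    exact Finset.sum_congr rfl fun h _ => by ring
  let Fx : Submodule k V :=
    { carrier := {v | ∀ h, τ h v = v}
      add_mem' := fun ha hb h => by rw [map_add, ha h, hb h]
      zero_mem' := fun h => map_zero _
      smul_mem' := fun r v hv h => by rw [map_smul, hv h] }
  let T : V → V := fun v => ∑ g, τ g v
  have hT : ∀ v, T v ∈ Fx := fun v h => by
    show τ h (∑ g, τ g v) = ∑ g, τ g v
    rw [map_sum]
    simp only [← Module.End.mul_apply, ← map_mul]
    exact Equiv.sum_comp (Equiv.mulLeft h) fun g => τ g v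
  refine ⟨Fx.map (Φ θ), fun v => ⟨fun h => Φ θ (T (Φ (y h) v)), fun h => ⟨_, hT _, rfl⟩, ?_⟩, ?_⟩
  · have h1 : ∀ h, τ h (Φ θ (T (Φ (y h) v))) = ∑ g, Φ (act α h θ * act α g (y h)) (τ g v) := by
      intro h
      rw [hsemi, hT _ h]
      simp only [T, map_sum, map_mul, Module.End.mul_apply, hsemi]
    simp only [h1]
    rw [Finset.sum_comm]
    have h2 : ∀ g : H, ∑ h, Φ (act α h θ * act α g (y h)) (τ g v) = if g = 1 then v else 0 := by
      intro g
      have e : ∑ h, act α h θ * act α g (y h) = act α g (∑ h, M g h * y h) := by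
        rw [map_sum]
        refine Finset.sum_congr rfl fun h _ => ?_
        have hMgh : act α h θ = act α g (M g h) := by
          show _ = act α g (act α (g⁻¹ * h) θ)
          rw [← AlgEquiv.mul_apply, ← map_mul, mul_inv_cancel_left]
        rw [map_mul, hMgh, map_mul]
        simp only [y, map_mul]
      rw [← LinearMap.sum_apply, ← map_sum, e, hy, Matrix.one_apply, ← hsemi]
      split_ifs with hg
      · rw [mul_one, hd, hg]; simp
      · simp
    simp only [h2, Finset.sum_ite_eq', Finset.mem_univ, if_true]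
  · intro x hx hsum
    choose w hw hwx using hx
    have h1 : ∀ g, ∑ h, Φ (M g h) (w h) = 0 := by
      intro g
      have h3 := congrArg (τ g⁻¹) hsum
      rw [map_zero, map_sum] at h3
      refine Eq.trans (Finset.sum_congr rfl fun h _ => ?_) h3
      rw [← hwx h, ← Module.End.mul_apply, ← map_mul, hsemi, hw h (g⁻¹ * h)]
      rfl
    intro h
    have h4 : ∑ g, Φ (u * M.adjugate h g) (∑ i, Φ (M g i) (w i)) = w h := by
      simp only [map_sum, ← Module.End.mul_apply, ← map_mul, mul_assoc]
      rw [Finset.sum_comm]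
      have hadj : ∀ i, ∑ g, u * (M.adjugate h g * M g i) = u * M.det * (1 : Matrix H H (MonoidAlgebra k Z)) h i := by
        intro i
        rw [← Finset.mul_sum, ← Matrix.mul_apply, Matrix.adjugate_mul, Matrix.smul_apply, smul_eq_mul, mul_assoc]
      simp only [← LinearMap.sum_apply, ← map_sum, hadj]
      rw [Finset.sum_eq_single h]
      · rw [Matrix.one_apply_eq, mul_one, hd]; rfl
      · intro i _ hi; rw [Matrix.one_apply_ne hi.symm, mul_zero, map_zero]; rfl
      · simp
    rw [← hwx h, ← h4]
    simp [h1]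

/-- Freeness glues over an invariant decomposition. -/
theorem isFree_of_isCompl {V : Type*} [AddCommGroup V] [Module k V] (τ : H →* Module.End k V)
    {C E : Submodule k V} (hCE : IsCompl C E) (hC : ∀ h, ∀ v ∈ C, τ h v ∈ C)
    (hE : ∀ h, ∀ v ∈ E, τ h v ∈ E) (τC : H →* Module.End k C) (τE : H →* Module.End k E)
    (hτC : ∀ h (v : C), (τC h v : V) = τ h v) (hτE : ∀ h (v : E), (τE h v : V) = τ h v)
    (fC : IsFree τC) (fE : IsFree τE) : IsFree τ := by
  obtain ⟨WC, sC, iC⟩ := fC
  obtain ⟨WE, sE, iE⟩ := fE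
  refine ⟨WC.map C.subtype ⊔ WE.map E.subtype, fun v => ?_, fun x hx hsum => ?_⟩
  · obtain ⟨a, ha, b, hb, rfl⟩ := Submodule.mem_sup.mp (hCE.sup_eq_top ▸ Submodule.mem_top : v ∈ C ⊔ E)
    obtain ⟨xa, hxa, hsa⟩ := sC ⟨a, ha⟩
    obtain ⟨xb, hxb, hsb⟩ := sE ⟨b, hb⟩
    refine ⟨fun h => (xa h : V) + (xb h : V), fun h => Submodule.add_mem_sup ⟨_, hxa h, rfl⟩ ⟨_, hxb h, rfl⟩, ?_⟩
    have e1 := congrArg (Subtype.val) hsa
    have e2 := congrArg (Subtype.val) hsb
    simp only [Submodule.coe_sum, hτC, hτE] at e1 e2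
    simp only [map_add, Finset.sum_add_distrib, e1, e2]
  · choose a ha b hb hab using fun h => Submodule.mem_sup.mp (hx h)
    choose a' ha' haa using ha
    choose b' hb' hbb using hb
    simp only [← hab, ← haa, ← hbb, map_add, Finset.sum_add_distrib, Submodule.coe_subtype] at hsum
    have h1 : ∑ h, τ h (a' h : V) = 0 := by
      refine Submodule.disjoint_def.mp hCE.disjoint _ (C.sum_mem fun h _ => hC h _ (a' h).2) ?_
      rw [eq_neg_of_add_eq_zero_left hsum]
      exact E.neg_mem (E.sum_mem fun h _ => hE h _ (b' h).2)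
    rw [h1, zero_add] at hsum
    have z1 := iC a' ha' (Subtype.ext (by simpa only [Submodule.coe_sum, hτC, ZeroMemClass.coe_zero] using h1))
    have z2 := iE b' hb' (Subtype.ext (by simpa only [Submodule.coe_sum, hτE, ZeroMemClass.coe_zero] using hsum))
    intro h
    rw [← hab, ← haa, ← hbb, z1 h, z2 h, map_zero, map_zero, add_zero]

/-- The recursion over the faithful quotient. -/
theorem isFree_of_fpf {F : Type*} [Group F] [Finite F] (hF : Group.IsNilpotent F)
    (α : H →* MulAut F) (hfpf : ∀ h : H, h ≠ 1 → ∀ f, α h f = f → f = 1) :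
    ∀ (n : ℕ) (V : Type uv) [AddCommGroup V] [Module k V] [FiniteDimensional k V]
      (π : F →* Module.End k V) (τ : H →* Module.End k V),
      Module.finrank k V = n → (∀ h f, τ h * π f = π (α h f) * τ h) →
      (∀ v : V, (∀ f, π f v = v) → v = 0) → IsFree τ := by
  intro n
  induction n using Nat.strong_induction_on with | _ n ih => ?_
  intro V _ _ _ π τ hn hcompat hfix
  classical
  by_cases hV : ∀ v : V, v = 0
  · exact ⟨⊥, fun v => ⟨fun _ => 0, fun _ => zero_mem _, by simp [hV v]⟩, fun x hx _ h => hV _⟩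
  push Not at hV
  obtain ⟨v0, hv0⟩ := hV
  set K := π.ker with hK
  haveI : Group.IsNilpotent (F ⧸ K) := Group.nilpotent_of_surjective (QuotientGroup.mk' K) (QuotientGroup.mk'_surjective K)
  let πq : (F ⧸ K) →* Module.End k V := QuotientGroup.lift K π fun _ h => h
  have hπq : ∀ f : F, πq f = π f := fun f => QuotientGroup.lift_mk' _ _ f
  have hKα : ∀ h : H, K.map (α h : F →* F) = K := by
    intro h
    refine Subgroup.eq_of_le_of_card_ge ?_ (Subgroup.card_map_of_injective (α h).injective).ge
    rintro _ ⟨f, hf, rfl⟩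
    rw [hK, MonoidHom.mem_ker]
    refine LinearMap.ext fun v => ?_
    have h1 := LinearMap.congr_fun (hcompat h f) (τ h⁻¹ v)
    rw [MonoidHom.mem_ker.mp hf, Module.End.mul_apply, Module.End.mul_apply, Module.End.one_apply,
      ← Module.End.mul_apply, ← map_mul, mul_inv_cancel, map_one] at h1
    exact h1.symm
  let αq : H →* MulAut (F ⧸ K) :=
    { toFun := fun h => QuotientGroup.congr K K (α h) (hKα h)
      map_one' := MulEquiv.ext fun q => by
        induction q using QuotientGroup.induction_on with | H f => ?_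
        simp
      map_mul' := fun a b => MulEquiv.ext fun q => by
        induction q using QuotientGroup.induction_on with | H f => ?_
        simp }
  have hαq : ∀ h (f : F), αq h f = ((α h f : F) : F ⧸ K) := fun h f => QuotientGroup.congr_mk' _ _ _ (hKα h) _
  have hfpfq : ∀ h : H, h ≠ 1 → ∀ q, αq h q = q → q = 1 := by
    intro h hh q hq
    induction q using QuotientGroup.induction_on with | H f => ?_
    rw [hαq, QuotientGroup.eq] at hq
    have hfp : MonoidHom.FixedPointFree (α h) := fun z hz => hfpf h hh z hz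
    -- `x ↦ x / α x` is a bijection preserving `K`
    have hbij : ∀ y ∈ K, ∃ x ∈ K, MonoidHom.commutatorMap (α h) x = y := by
      let g : K → K := fun x => ⟨MonoidHom.commutatorMap (α h) x,
        K.div_mem x.2 ((hKα h).le (Subgroup.mem_map_of_mem _ x.2))⟩
      intro y hy
      obtain ⟨x, hx⟩ := (Finite.injective_iff_surjective (f := g)).mp
        (fun a b hab => Subtype.ext (hfp.commutatorMap_injective (congrArg Subtype.val hab))) ⟨y, hy⟩
      exact ⟨x, x.2, congrArg Subtype.val hx⟩
    have hmem : f / α h f ∈ K := by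
      have := (inferInstance : K.Normal).conj_mem _ hq (α h f)
      simpa [div_eq_mul_inv, mul_assoc] using this
    obtain ⟨x, hx, hxe⟩ := hbij _ hmem
    have : x = f := hfp.commutatorMap_injective hxe
    exact (QuotientGroup.eq_one_iff f).mpr (this ▸ hx)
  let p := ringChar k
  let Z : Subgroup (F ⧸ K) :=
    { carrier := {z | z ∈ Subgroup.center (F ⧸ K) ∧ (orderOf z : k) ≠ 0}
      one_mem' := ⟨one_mem _, by simp⟩
      inv_mem' := fun {a} ha => ⟨inv_mem ha.1, by rw [orderOf_inv]; exact ha.2⟩
      mul_mem' := fun {a b} ha hb => ⟨mul_mem ha.1 hb.1, by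
        obtain ⟨c, hc⟩ := ((show Commute a b from (Subgroup.mem_center_iff.mp hb.1 a)).orderOf_mul_dvd_lcm).trans
          (Nat.lcm_dvd_mul _ _)
        intro h0
        refine mul_ne_zero ha.2 hb.2 ?_
        rw [← Nat.cast_mul, hc, Nat.cast_mul, h0, zero_mul]⟩ }
  have hZcomm : ∀ a b : Z, a * b = b * a := fun a b => Subtype.ext (Subgroup.mem_center_iff.mp b.2.1 a.1)
  letI : CommGroup Z := { (inferInstance : Group Z) with mul_comm := hZcomm }
  letI : Fintype Z := Fintype.ofFinite Z
  have hZne : Z ≠ ⊥ := by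
    intro hZ
    -- otherwise the quotient is a `p`-group and fixes a vector
    have key : ∀ ℓ : ℕ, ℓ.Prime → ℓ ∣ Nat.card (F ⧸ K) → (ℓ : k) = 0 := by
      intro ℓ hℓ hdvd
      by_contra hl
      haveI := Fact.mk hℓ
      obtain ⟨P⟩ : Nonempty (Sylow ℓ (F ⧸ K)) := inferInstance
      haveI : (P : Subgroup (F ⧸ K)).Normal := Sylow.normal_of_normalizerCondition Group.normalizerCondition_of_isNilpotent P
      obtain ⟨z, hzP, hz1, hzc⟩ : ∃ z ∈ (P : Subgroup (F ⧸ K)), z ≠ 1 ∧ z ∈ Subgroup.center (F ⧸ K) := by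
        have hex : ∃ i, ∃ z ∈ (P : Subgroup (F ⧸ K)), z ≠ 1 ∧ z ∈ Subgroup.upperCentralSeries (F ⧸ K) i := by
          refine ⟨Group.nilpotencyClass (F ⧸ K), ?_⟩
          rw [Subgroup.upperCentralSeries_nilpotencyClass]
          obtain ⟨z, hz⟩ := exists_prime_orderOf_dvd_card' ℓ (P.dvd_card_of_dvd_card hdvd)
          exact ⟨z, z.2, fun h => hℓ.ne_one (by
            rw [← hz, ← Subgroup.orderOf_coe, h, orderOf_one]), trivial⟩
        obtain ⟨z, hzP, hz1, hzi⟩ := Nat.find_spec hex
        rcases hi : Nat.find hex with _ | j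
        · rw [hi, Subgroup.upperCentralSeries_zero] at hzi
          exact absurd (Subgroup.mem_bot.mp hzi) hz1
        · rw [hi, Subgroup.mem_upperCentralSeries_succ_iff] at hzi
          refine ⟨z, hzP, hz1, Subgroup.mem_center_iff.mpr fun g => ?_⟩
          by_contra hne
          refine Nat.find_min hex (by omega : j < Nat.find hex) ⟨⁅z, g⁆, ?_, ?_, hzi g⟩
          · rw [commutatorElement_def, mul_assoc, mul_assoc, ← mul_assoc g]
            exact mul_mem hzP ((inferInstance : (P : Subgroup (F ⧸ K)).Normal).conj_mem _ (inv_mem hzP) g)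
          · intro hc
            exact hne (commutatorElement_eq_one_iff_mul_comm.mp hc).symm
      have hzZ : z ∈ Z := by
        refine ⟨hzc, ?_⟩
        obtain ⟨j, hj⟩ := P.2 ⟨z, hzP⟩
        obtain ⟨i, -, hi⟩ := (Nat.dvd_prime_pow hℓ).mp (orderOf_dvd_of_pow_eq_one (congrArg Subtype.val hj))
        rw [hi, Nat.cast_pow]
        exact pow_ne_zero i hl
      rw [hZ, Subgroup.mem_bot] at hzZ
      exact hz1 hzZ
    have hfixq : ∃ v : V, v ≠ 0 ∧ ∀ q, πq q v = v := by
      by_cases hQ : Nat.card (F ⧸ K) = 1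
      · refine ⟨v0, hv0, fun q => ?_⟩
        haveI : Subsingleton (F ⧸ K) := (Nat.card_eq_one_iff_unique.mp hQ).1
        rw [Subsingleton.elim q 1, map_one]; rfl
      · obtain ⟨ℓ, hℓ, hℓd⟩ := Nat.exists_prime_and_dvd hQ
        haveI := Fact.mk hℓ
        have hP : IsPGroup ℓ (F ⧸ K) := by
          refine IsPGroup.of_card (n := (Nat.card (F ⧸ K)).primeFactorsList.length) ?_
          refine Nat.eq_prime_pow_of_unique_prime_dvd Nat.card_pos.ne' fun {q} hq hqd => ?_
          have h1 := key q hq hqd
          have h2 := key ℓ hℓ hℓd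
          rw [ringChar.spec] at h1 h2
          have hp1 : ringChar k ≠ 1 := CharP.ringChar_ne_one
          exact ((Nat.dvd_prime hq).mp h1 |>.resolve_left hp1).symm.trans ((Nat.dvd_prime hℓ).mp h2 |>.resolve_left hp1)
        obtain ⟨x, -, hx0, hx⟩ := Lib.MinSquare.PermSummand.exists_fixed_vector (key ℓ hℓ hℓd) hP πq
          (W := ⊤) (by
            intro h
            exact hv0 ((Submodule.mem_bot k).mp (h ▸ Submodule.mem_top))) (fun _ _ _ => Submodule.mem_top)
        exact ⟨x, hx0, hx⟩
    obtain ⟨v, hv, hvf⟩ := hfixq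
    exact hv (hfix v fun f => by rw [← hπq]; exact hvf _)
  have hZα : ∀ h : H, ∀ z ∈ Z, αq h z ∈ Z := by
    intro h z hz
    refine ⟨Subgroup.mem_center_iff.mpr fun g => ?_, by
      rw [show orderOf (αq h z) = orderOf z from orderOf_injective (αq h).toMonoidHom (αq h).injective z]; exact hz.2⟩
    obtain ⟨g', rfl⟩ := (αq h).surjective g
    rw [← map_mul, ← map_mul, Subgroup.mem_center_iff.mp hz.1 g']
  let αZ : H →* MulAut Z :=
    { toFun := fun h =>
        { toFun := fun z => ⟨αq h z, hZα h z z.2⟩
          invFun := fun z => ⟨αq h⁻¹ z, hZα h⁻¹ z z.2⟩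
          left_inv := fun z => Subtype.ext (by
            show αq h⁻¹ (αq h z) = z
            rw [← MulAut.mul_apply, ← map_mul, inv_mul_cancel, map_one]; rfl)
          right_inv := fun z => Subtype.ext (by
            show αq h (αq h⁻¹ z) = z
            rw [← MulAut.mul_apply, ← map_mul, mul_inv_cancel, map_one]; rfl)
          map_mul' := fun a b => Subtype.ext (map_mul (αq h) _ _) }
      map_one' := MulEquiv.ext fun z => Subtype.ext (by simp)
      map_mul' := fun a b => MulEquiv.ext fun z => Subtype.ext (by simp) }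
  let πZ : Z →* Module.End k V := πq.comp Z.subtype
  have hZcard : (Fintype.card Z : k) ≠ 0 := by
    intro h0
    rw [ringChar.spec, ← Nat.card_eq_fintype_card] at h0
    have hprime : (ringChar k).Prime := by
      refine (CharP.char_is_prime_or_zero k (ringChar k)).resolve_right fun hp0 => ?_
      rw [hp0, zero_dvd_iff] at h0
      exact Nat.card_pos.ne' h0
    haveI := Fact.mk hprime
    obtain ⟨z, hz⟩ := exists_prime_orderOf_dvd_card' (ringChar k) h0
    exact z.2.2 (by rw [Subgroup.orderOf_coe, hz, ringChar.spec])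
  have hcompatq : ∀ h q, τ h * πq q = πq (αq h q) * τ h := by
    intro h q
    induction q using QuotientGroup.induction_on with | H f => ?_
    rw [hαq, hπq, hπq]
    exact hcompat h f
  let e : V →ₗ[k] V := (Fintype.card Z : k)⁻¹ • ∑ z : Z, πZ z
  have heτ : ∀ h v, τ h (e v) = e (τ h v) := by
    intro h v
    simp only [e, LinearMap.smul_apply, LinearMap.sum_apply, map_smul, map_sum]
    congr 1
    refine Fintype.sum_equiv (αZ h).toEquiv _ _ fun z => ?_
    exact LinearMap.congr_fun (hcompatq h z) v
  have heπ : ∀ f v, π f (e v) = e (π f v) := by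
    intro f v
    simp only [e, LinearMap.smul_apply, LinearMap.sum_apply, map_smul, map_sum]
    congr 1
    refine Finset.sum_congr rfl fun z _ => ?_
    show π f (πq z v) = πq z (π f v)
    rw [← hπq, ← Module.End.mul_apply, ← Module.End.mul_apply, ← map_mul, ← map_mul,
      Subgroup.mem_center_iff.mp z.2.1]
  have heZ : ∀ (z : Z) v, πZ z (e v) = e v := by
    intro z v
    simp only [e, LinearMap.smul_apply, LinearMap.sum_apply, map_smul, map_sum]
    congr 1
    refine Fintype.sum_equiv (Equiv.mulLeft z) _ _ fun w => ?_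
    rw [← Module.End.mul_apply, ← map_mul]; rfl
  have hefix : ∀ v, (∀ z : Z, πZ z v = v) → e v = v := by
    intro v hv
    simp only [e, LinearMap.smul_apply, LinearMap.sum_apply, hv, Finset.sum_const, Finset.card_univ]
    rw [← Nat.cast_smul_eq_nsmul k, inv_smul_smul₀ hZcard]
  let C := LinearMap.range e
  let E := LinearMap.ker e
  have hCE : IsCompl C E := by
    refine LinearMap.IsProj.isCompl ⟨fun v => ⟨v, rfl⟩, ?_⟩
    rintro _ ⟨v, rfl⟩
    exact hefix _ fun z => heZ z v
  have hCt : ∀ h, ∀ v ∈ C, τ h v ∈ C := by rintro h _ ⟨v, rfl⟩; exact ⟨τ h v, (heτ h v).symm⟩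
  have hEt : ∀ h, ∀ v ∈ E, τ h v ∈ E := fun h v hv => by
    rw [LinearMap.mem_ker, ← heτ, LinearMap.mem_ker.mp hv, map_zero]
  have hCp : ∀ f, ∀ v ∈ C, π f v ∈ C := by rintro f _ ⟨v, rfl⟩; exact ⟨π f v, (heπ f v).symm⟩
  let τC : H →* Module.End k C :=
    { toFun := fun h => (τ h).restrict (hCt h)
      map_one' := LinearMap.ext fun v => Subtype.ext (by simp)
      map_mul' := fun a b => LinearMap.ext fun v => Subtype.ext (by simp) }
  let πC : F →* Module.End k C :=
    { toFun := fun f => (π f).restrict (hCp f)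
      map_one' := LinearMap.ext fun v => Subtype.ext (by simp)
      map_mul' := fun a b => LinearMap.ext fun v => Subtype.ext (by simp) }
  let τE : H →* Module.End k E :=
    { toFun := fun h => (τ h).restrict (hEt h)
      map_one' := LinearMap.ext fun v => Subtype.ext (by simp)
      map_mul' := fun a b => LinearMap.ext fun v => Subtype.ext (by simp) }
  have hEp : ∀ z : Z, ∀ v ∈ E, πZ z v ∈ E := by
    intro z v hv
    obtain ⟨f, hf⟩ := QuotientGroup.mk_surjective (z : F ⧸ K)
    show e (πq z v) = 0
    rw [← hf, hπq, ← heπ, LinearMap.mem_ker.mp hv, map_zero]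
  let πE : Z →* Module.End k E :=
    { toFun := fun f => (πZ f).restrict (hEp f)
      map_one' := LinearMap.ext fun v => Subtype.ext (by simp)
      map_mul' := fun a b => LinearMap.ext fun v => Subtype.ext (by simp) }
  refine isFree_of_isCompl τ hCE hCt hEt τC τE (fun _ _ => rfl) (fun _ _ => rfl) ?_ ?_
  · refine ih _ ?_ C πC τC rfl (fun h f => LinearMap.ext fun v => Subtype.ext
      (LinearMap.congr_fun (hcompat h f) v.1)) fun v hv => Subtype.ext
        (hfix v fun f => congrArg Subtype.val (hv f))
    rw [← hn]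
    refine Submodule.finrank_lt ?_
    intro hCtop
    obtain ⟨z, hz, hz1⟩ : ∃ z ∈ Z, z ≠ 1 := by
      by_contra hcon
      push Not at hcon
      exact hZne ((Subgroup.eq_bot_iff_forall Z).mpr hcon)
    refine hz1 ?_
    induction z using QuotientGroup.induction_on with | H f => ?_
    rw [QuotientGroup.eq_one_iff, hK, MonoidHom.mem_ker]
    refine LinearMap.ext fun v => ?_
    obtain ⟨w, rfl⟩ : v ∈ C := hCtop ▸ Submodule.mem_top
    rw [← hπq]
    exact heZ ⟨_, hz⟩ w
  · refine isFree_of_abelian hZcard πE τE αZ (fun h z => LinearMap.ext fun v => Subtype.ext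
      (LinearMap.congr_fun (hcompatq h z) v.1)) (fun v hv => Subtype.ext ?_)
      (fun h hh z hz => Subtype.ext (hfpfq h hh z (congrArg Subtype.val hz)))
    rw [← hefix v.1 fun z => congrArg Subtype.val (hv z)]
    exact v.2

end Cfsg.Agent.Lib.FreeAction
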