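import Mathlib

/-!
An element whose translates form a "Galois basis" of the non-augmentation part of a commutative
group algebra acted on fixed-point-freely.
-/

set_option autoImplicit false
set_option linter.style.haveILetI false

namespace Cfsg.Agent.Lib.FreeAction

open Matrix

/-- Normal basis element with non-vanishing circulant determinant. -/
theorem exists_det_ne_zero (D L : Type*) [Group D] [Fintype D] [DecidableEq D] [Field L]
    [MulSemiringAction D L] [FaithfulSMul D L] :
    ∃ θ : L, (Matrix.of fun s t : D => (s⁻¹ * t) • θ).det ≠ 0 := by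
  let K := FixedPoints.subfield D L
  obtain ⟨x, hx⟩ := exists_linearIndependent_algEquiv_apply K L
  let e := FixedPoints.toAlgAutMulEquiv D L
  have hcard : Fintype.card D = Module.finrank K L := by
    rw [← Nat.card_eq_fintype_card, ← IsGalois.card_aut_eq_finrank K L, Nat.card_congr e.toEquiv]
  have hli : LinearIndependent K fun t : D => t • x :=
    hx.comp e e.injective
  let b := basisOfLinearIndependentOfCardEqFinrank hli hcard
  refine ⟨x, fun h => ?_⟩
  obtain ⟨a, ha0, ha⟩ := (exists_vecMul_eq_zero_iff (M := Matrix.of fun s t : D => (s⁻¹ * t) • x)).mpr h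
  have hl : LinearIndependent L (fun s : D => ((MulSemiringAction.toAlgHom K L s⁻¹).toLinearMap : L →ₗ[K] L)) :=
    (linearIndependent_toLinearMap K L L).comp _
      ((FixedPoints.toAlgHom_bijective D L).injective.comp inv_injective)
  refine ha0 (funext (Fintype.linearIndependent_iff.mp hl a ?_))
  refine b.ext fun t => ?_
  have := congrFun ha t
  simp only [vecMul, dotProduct, Matrix.of_apply, Pi.zero_apply] at this
  simp only [b, coe_basisOfLinearIndependentOfCardEqFinrank, LinearMap.sum_apply,
    LinearMap.smul_apply, AlgHom.toLinearMap_apply, MulSemiringAction.toAlgHom_apply,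
    LinearMap.zero_apply, smul_eq_mul]
  simpa only [mul_smul] using this

variable {k : Type*} [Field k] {Z : Type*} [CommGroup Z] [Finite Z] {H : Type*} [Group H] [Finite H]

/-- The action on the group algebra induced by an action on the group. -/
noncomputable def act (α : H →* MulAut Z) : H →* (MonoidAlgebra k Z ≃ₐ[k] MonoidAlgebra k Z) :=
  (MonoidAlgebra.domCongrAut (R := k) (A := k)).comp α

theorem act_of (α : H →* MulAut Z) (h : H) (z : Z) :
    act (k := k) α h (MonoidAlgebra.of k Z z) = MonoidAlgebra.of k Z (α h z) := by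
  simp [act, MonoidAlgebra.domCongrAut, MonoidAlgebra.of_apply]

variable [Fintype Z]

variable (k Z) in
/-- The averaging idempotent of the group algebra. -/
noncomputable def avg : MonoidAlgebra k Z :=
  (Fintype.card Z : k)⁻¹ • ∑ z : Z, MonoidAlgebra.of k Z z

theorem act_avg (α : H →* MulAut Z) (h : H) : act (k := k) α h (avg k Z) = avg k Z := by
  rw [avg, map_smul, map_sum]
  congr 1
  simp only [act_of]
  exact Equiv.sum_comp (α h).toEquiv fun z => MonoidAlgebra.of k Z z

variable [Fintype H] [DecidableEq H]

/-- The matrix of translates of an element. -/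
noncomputable def transMat (α : H →* MulAut Z) (θ : MonoidAlgebra k Z) :
    Matrix H H (MonoidAlgebra k Z) :=
  Matrix.of fun g h => act α (g⁻¹ * h) θ

/-- There is an element whose matrix of translates has determinant invertible away from the
augmentation. -/
theorem exists_theta (hZ : (Fintype.card Z : k) ≠ 0) (α : H →* MulAut Z)
    (hfpf : ∀ h : H, h ≠ 1 → ∀ z, α h z = z → z = 1) :
    ∃ θ u : MonoidAlgebra k Z, ∃ c, u * (transMat α θ).det = 1 + c * avg k Z := by
  classical
  set B := MonoidAlgebra k Z
  haveI : Module.Finite k B := Module.Finite.of_basis (MonoidAlgebra.basis Z k)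
  haveI : IsArtinianRing B := isArtinian_of_tower k inferInstance
  let S := {m : MaximalSpectrum B // avg k Z ∈ m.asIdeal}
  -- the action of `H` on maximal ideals
  let sm : H → S → S := fun h m => ⟨⟨m.1.asIdeal.comap (act (k := k) α h⁻¹),
    Ideal.comap_isMaximal_of_surjective _ (act (k := k) α h⁻¹).surjective (H := m.1.isMaximal)⟩, by
      show act (k := k) α h⁻¹ (avg k Z) ∈ m.1.asIdeal
      rw [act_avg]; exact m.2⟩
  have hsm : ∀ h m x, x ∈ (sm h m).1.asIdeal ↔ act (k := k) α h⁻¹ x ∈ m.1.asIdeal := fun _ _ _ => Iff.rfl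
  have hext : ∀ m m' : S, (∀ x, x ∈ m.1.asIdeal ↔ x ∈ m'.1.asIdeal) → m = m' := fun m m' h =>
    Subtype.ext (MaximalSpectrum.ext (SetLike.ext h))
  letI : MulAction H S :=
    { smul := sm
      one_smul := fun m => hext _ _ fun x => by
        show act (k := k) α (1 : H)⁻¹ x ∈ m.1.asIdeal ↔ _
        simp
      mul_smul := fun g h m => hext _ _ fun x => by
        show act (k := k) α (g * h)⁻¹ x ∈ m.1.asIdeal ↔ act (k := k) α h⁻¹ (act (k := k) α g⁻¹ x) ∈ m.1.asIdeal
        rw [_root_.mul_inv_rev, map_mul, AlgEquiv.mul_apply] }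
  have hmem : ∀ (h : H) (m : S) x, x ∈ (h • m).1.asIdeal ↔ act (k := k) α h⁻¹ x ∈ m.1.asIdeal :=
    fun _ _ _ => Iff.rfl
  -- a residue with non-vanishing determinant at one ideal
  have key : ∀ m : S, ∃ t : B, ∀ θ : B,
      (∀ u : H, u • m = m → θ - t ∈ m.1.asIdeal) → (∀ u : H, u • m ≠ m → θ ∈ (u • m).1.asIdeal) →
      (transMat α θ).det ∉ m.1.asIdeal := by
    intro m
    haveI := m.1.isMaximal
    letI : Field (B ⧸ m.1.asIdeal) := Ideal.Quotient.field _
    let D := MulAction.stabilizer H m
    have hD : ∀ d : D, m.1.asIdeal = m.1.asIdeal.map (act (k := k) α (d : H) : B →+* B) := by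
      intro d
      refine SetLike.ext fun x => ?_
      constructor
      · intro hx
        have : act (k := k) α (d : H)⁻¹ x ∈ m.1.asIdeal := (hmem _ m x).mp (by rw [d.2]; exact hx)
        have := Ideal.mem_map_of_mem (act (k := k) α (d : H) : B →+* B) this
        have hxe : act (k := k) α (d : H) (act (k := k) α (d : H)⁻¹ x) = x := by
          rw [← AlgEquiv.mul_apply, ← map_mul, mul_inv_cancel, map_one]; rfl
        change act (k := k) α (d : H) (act (k := k) α (d : H)⁻¹ x) ∈ _ at this
        rwa [hxe] at this
      · intro hx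
        obtain ⟨y, hy, rfl⟩ := (Ideal.mem_map_iff_of_surjective (act (k := k) α (d : H) : B →+* B)
          (act (k := k) α (d : H)).surjective).mp hx
        have : ((d : H)⁻¹ : H) • m = m := inv_smul_eq_iff.mpr d.2.symm
        have := (hmem _ m y).mp (by rw [this]; exact hy)
        simpa using this
    let φ : D →* ((B ⧸ m.1.asIdeal) ≃ₐ[k] (B ⧸ m.1.asIdeal)) :=
      { toFun := fun d => Ideal.quotientEquivAlg _ _ (act (k := k) α (d : H)) (hD d)
        map_one' := AlgEquiv.ext fun x => by
          induction x using Submodule.Quotient.induction_on with | H y => ?_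
          show Ideal.Quotient.mk _ (act (k := k) α ((1 : D) : H) y) = Ideal.Quotient.mk _ y
          simp
        map_mul' := fun a b => AlgEquiv.ext fun x => by
          induction x using Submodule.Quotient.induction_on with | H y => ?_
          show Ideal.Quotient.mk _ (act (k := k) α ((a * b : D) : H) y) =
            Ideal.Quotient.mk _ (act (k := k) α (a : H) (act (k := k) α (b : H) y))
          simp }
    letI : MulSemiringAction D (B ⧸ m.1.asIdeal) := MulSemiringAction.compHom _ φ
    have hφ : ∀ (d : D) (y : B), d • Ideal.Quotient.mk m.1.asIdeal y =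
        Ideal.Quotient.mk m.1.asIdeal (act (k := k) α (d : H) y) := fun _ _ => rfl
    haveI : FaithfulSMul D (B ⧸ m.1.asIdeal) := by
      refine ⟨fun {a b} hab => ?_⟩
      suffices hd : a⁻¹ * b = 1 from inv_mul_eq_one.mp hd
      by_contra hne
      have hne' : ((a⁻¹ * b : D) : H) ≠ 1 := fun h => hne (Subtype.ext h)
      let χ : Z →* (B ⧸ m.1.asIdeal) := (Ideal.Quotient.mk m.1.asIdeal).toMonoidHom.comp (MonoidAlgebra.of k Z)
      have hinv : ∀ z, χ (α ((a⁻¹ * b : D) : H) z) = χ z := by
        intro z
        show Ideal.Quotient.mk m.1.asIdeal _ = Ideal.Quotient.mk m.1.asIdeal _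
        rw [← act_of, ← hφ, mul_smul, ← hab, inv_smul_smul]
      have htriv : ∀ z, χ z = 1 := by
        intro z
        have hfp : MonoidHom.FixedPointFree (α ((a⁻¹ * b : D) : H)) := fun z hz => hfpf _ hne' z hz
        obtain ⟨y, rfl⟩ := hfp.commutatorMap_surjective z
        rw [MonoidHom.commutatorMap_apply, div_eq_mul_inv, map_mul, ← hinv (y), ← map_mul,
          mul_inv_cancel, map_one]
      have h1 : Ideal.Quotient.mk m.1.asIdeal (avg k Z) = 1 := by
        rw [← Ideal.Quotient.mkₐ_eq_mk k]
        unfold avg
        rw [map_smul, map_sum]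
        have : ∀ z : Z, Ideal.Quotient.mkₐ k m.1.asIdeal (MonoidAlgebra.of k Z z) = 1 := htriv
        simp only [this, Finset.sum_const, Finset.card_univ]
        rw [← Nat.cast_smul_eq_nsmul k, inv_smul_smul₀ hZ]
      exact one_ne_zero (h1.symm.trans (Ideal.Quotient.eq_zero_iff_mem.mpr m.2))
    haveI : Fintype D := Fintype.ofFinite D
    obtain ⟨x, hx⟩ := exists_det_ne_zero D (B ⧸ m.1.asIdeal)
    obtain ⟨t, rfl⟩ := Ideal.Quotient.mk_surjective x
    refine ⟨t, fun θ h1 h2 hdet => ?_⟩
    have hdet' : ((transMat α θ).map (Ideal.Quotient.mk m.1.asIdeal)).det = 0 := by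
      rw [← RingHom.mapMatrix_apply, ← RingHom.map_det]
      exact Ideal.Quotient.eq_zero_iff_mem.mpr hdet
    obtain ⟨c, hc0, hc⟩ := exists_mulVec_eq_zero_iff.mpr hdet'
    have hent : ∀ u : H, Ideal.Quotient.mk m.1.asIdeal (act α u θ) =
        if hu : u ∈ D then (⟨u, hu⟩ : D) • Ideal.Quotient.mk m.1.asIdeal t else 0 := by
      intro u
      split_ifs with hu
      · rw [hφ, Ideal.Quotient.mk_eq_mk_iff_sub_mem, ← map_sub]
        have h3 : (u⁻¹ : H) • m = m := inv_smul_eq_iff.mpr (MulAction.mem_stabilizer_iff.mp hu).symm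
        have h4 := h1 1 (one_smul _ _)
        rw [← h3, hmem, inv_inv] at h4
        exact h4
      · refine Ideal.Quotient.eq_zero_iff_mem.mpr ?_
        have h4 := h2 u⁻¹ (fun h => hu (MulAction.mem_stabilizer_iff.mpr (inv_smul_eq_iff.mp h).symm))
        rwa [hmem, inv_inv] at h4
    refine hc0 (funext fun g => ?_)
    let M' : Matrix D D (B ⧸ m.1.asIdeal) :=
      Matrix.of fun s d : D => (s⁻¹ * d) • Ideal.Quotient.mk m.1.asIdeal t
    have hzero : M' *ᵥ (fun d : D => c (g * d)) = 0 := by
      funext s
      have := congrFun hc (g * s)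
      simp only [mulVec, dotProduct, Matrix.map_apply, transMat, Matrix.of_apply, hent,
        Pi.zero_apply] at this ⊢
      rw [← this]
      refine Finset.sum_of_injOn (fun d : D => g * (d : H)) ?_ (by simp) ?_ ?_
      · intro a _ b _ hab
        exact Subtype.ext (mul_left_cancel (show g * (a : H) = g * b from hab))
      · intro h _ hh
        rw [dif_neg, zero_mul]
        intro hmem'
        refine hh ⟨⟨g⁻¹ * h, ?_⟩, Finset.mem_coe.mpr (Finset.mem_univ _), mul_inv_cancel_left g h⟩
        have := D.mul_mem s.2 hmem'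
        simpa [_root_.mul_inv_rev, mul_assoc] using this
      · intro d _
        have hd : (g * (s : H))⁻¹ * (g * d) ∈ D := by
          simpa [_root_.mul_inv_rev, mul_assoc] using (s⁻¹ * d).2
        rw [dif_pos hd]
        simp only [M', Matrix.of_apply]
        congr 2
        exact Subtype.ext (by simp [_root_.mul_inv_rev, mul_assoc])
    have := Matrix.eq_zero_of_mulVec_eq_zero hx hzero
    simpa using congrFun this 1
  choose t ht using key
  let rep : S → S := fun m => (Quotient.mk (MulAction.orbitRel H S) m).out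
  have hrep : ∀ (h : H) (m : S), rep (h • m) = rep m := fun h m =>
    congrArg Quotient.out (Quotient.sound (MulAction.mem_orbit m h))
  let r : S → B := fun m => if rep m = m then t m else 0
  haveI : Finite S := Subtype.finite
  obtain ⟨θ, hθ⟩ := Ideal.exists_forall_sub_mem_ideal (I := fun m : S => m.1.asIdeal)
    (fun m m' hne => by
      show IsCoprime m.1.asIdeal m'.1.asIdeal
      refine Ideal.isCoprime_iff_sup_eq.mpr ?_
      exact m.1.isMaximal.coprime_of_ne m'.1.isMaximal fun h => hne (Subtype.ext (MaximalSpectrum.ext h))) r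
  have hperm : ∀ (g : H), act α g (transMat α θ).det = (transMat α θ).det ∨
      act α g (transMat α θ).det = -(transMat α θ).det := by
    intro g
    rw [AlgEquiv.map_det]
    have : (act (k := k) α g).mapMatrix (transMat α θ) =
        (transMat α θ).submatrix (Equiv.mulRight g⁻¹) id := by
      ext a b : 1
      simp only [AlgEquiv.mapMatrix_apply, Matrix.map_apply, transMat, Matrix.of_apply,
        Matrix.submatrix_apply, id, Equiv.coe_mulRight]
      rw [← AlgEquiv.mul_apply, ← map_mul, _root_.mul_inv_rev, inv_inv, mul_assoc]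
    rw [this, Matrix.det_permute]
    rcases Int.units_eq_one_or (Equiv.Perm.sign (Equiv.mulRight g⁻¹)) with hs | hs <;> rw [hs]
    · left; simp
    · right; simp
  have hgood : ∀ m : S, (transMat α θ).det ∉ m.1.asIdeal := by
    intro m hm
    obtain ⟨g, hg⟩ : rep m ∈ MulAction.orbit H m :=
      Quotient.mk_out (s := MulAction.orbitRel H S) m
    have hg' : g⁻¹ • rep m = m := by rw [← hg]; exact inv_smul_smul g m
    have hrr : rep (rep m) = rep m := by
      conv_lhs => rw [← hg]
      exact hrep g m
    refine ht (rep m) θ (fun u hu => ?_) (fun u hu => ?_) ?_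
    · have := hθ (rep m)
      simp only [r, hrr, if_true] at this
      exact this
    · have := hθ (u • rep m)
      simp only [r, hrep, hrr] at this
      rwa [if_neg (fun h => hu h.symm), sub_zero] at this
    · rw [← hg', hmem, inv_inv] at hm
      rcases hperm g with h | h <;> rw [h] at hm
      · exact hm
      · exact neg_mem_iff.mp hm
  have htop : Ideal.span {(transMat α θ).det, avg k Z} = ⊤ := by
    by_contra hne
    obtain ⟨M, hM, hle⟩ := Ideal.exists_le_maximal _ hne
    exact hgood ⟨⟨M, hM⟩, hle (Ideal.subset_span (by simp))⟩ (hle (Ideal.subset_span (by simp)))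
  obtain ⟨u, c, hu⟩ := Ideal.mem_span_pair.mp (htop ▸ Submodule.mem_top (x := (1 : B)))
  exact ⟨θ, u, -c, by linear_combination hu⟩

end Cfsg.Agent.Lib.FreeAction
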